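set_option autoImplicit false
namespace Cfsg.Agent.Lib.Helper6.TCD.L37C
noncomputable def NC (i : Nat) : Nat := Nat.land (Nat.shiftRight 0x80001000007300001000020000100000d000000000100003c0002d300000000000000400001c800000000040000c001f9100000000010000f0000d4000000000000000000000000000 (Nat.mul 86 (Nat.land i 511))) 77371252455336267181195263
end Cfsg.Agent.Lib.Helper6.TCD.L37C
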