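set_option autoImplicit false
namespace Cfsg.Agent.Lib.Helper6.TCD.L37C
noncomputable def SC (i : Nat) : Nat := Nat.land (Nat.shiftRight 0x1000000080012c0200000010001e4020000100800000010004e00800000040007900800000010000001000000040007e008001e40200000010001ec020000000400000040000001000000040000000000000040000000000000010000200c00000000000200c00000010000200c0000000000000000000000000000000000000 (Nat.mul 30 (Nat.land i 1023))) 1073741823
end Cfsg.Agent.Lib.Helper6.TCD.L37C
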