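set_option autoImplicit false
namespace Cfsg.Agent.Lib.Helper6.TCD.L37C
noncomputable def WI (i : Nat) : Nat := Nat.land (Nat.shiftRight 0x434001a010c00064082e0217000b01058042c00170c0a85854282a1215080a83854182a0a15040a81854082a0215000a060502c281414090a040501c280c14050a020500c280414010a000540c2604130109800480c24041201090004c0c2204110108800400c200410010800044041e000e0107000384c18240c1106080303c181c0c0d06060302c18140c0906040301c180c0c0506020300c18040c0106000344416200b0f058702c3416180b0b058502c2416100b07058302c1416080b03058102c0416000a1105080283c141c0a0d05060282c14140a0905040281c140c0a0505020280c14040a01050002c10120609020480824001008080304010200410000900030001c040a0004010200010000600000000 (Nat.mul 17 (Nat.land i 255))) 131071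
end Cfsg.Agent.Lib.Helper6.TCD.L37C
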