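set_option autoImplicit false
namespace Cfsg.Agent.Lib.Helper6.TCD.L37C
noncomputable def SH (i : Nat) : Nat := Nat.land (Nat.shiftRight 0x5c000040000c0000180001a0000400003e0000a00007000014000070000200000d0000000002000004000074000180000f000030000090000000001e0000a00006c00018000100000180000a000030000320000c00001800008000028000000000b000040000420000800001c0000c00013800000000110000500004e0000000000c000000000a80001800016000060000280000a00000400000000098000000000c00005000010000080000100000c000010000100000000001 (Nat.mul 43 (Nat.land i 1023))) 8796093022207
end Cfsg.Agent.Lib.Helper6.TCD.L37C
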